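import Groth.Agent.HLocTwo.Setup
import Mathlib

/-!
# The normalisation of a two dimensional henselian local ring in a finite extension
-/

set_option autoImplicit false
set_option backward.isDefEq.respectTransparency false
set_option backward.isDefEq.respectTransparency.types false
set_option linter.auxLemma false
set_option linter.style.haveILetI false

universe u

open CategoryTheory CategoryTheory.Limits AlgebraicGeometry IsLocalRing
open Groth.Agent.EtPBC

noncomputable section

namespace Groth.Agent.HLocTwo

/-- algebraic properties of the normalisation -/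
theorem normalisation_facts (k : Type u) [Field k] [CharZero k]
    (R₀ : Type u) [CommRing R₀] [IsDomain R₀] [Algebra k R₀] [IsIntegrallyClosed R₀] (hexc : EGA4.IsExcellent R₀)
    (hdim : ringKrullDim R₀ = 2) (K : Type u) [Field K] [Algebra R₀ K] [Algebra (FractionRing R₀) K]
    [IsScalarTower R₀ (FractionRing R₀) K] [FiniteDimensional (FractionRing R₀) K] :
    IsNoetherianRing ↥(integralClosure R₀ K) ∧ IsIntegrallyClosed ↥(integralClosure R₀ K) ∧
      IsFractionRing ↥(integralClosure R₀ K) K ∧ ringKrullDim ↥(integralClosure R₀ K) ≤ 2 ∧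
      ∀ p : ℕ, p.Prime → IsUnit (p : ↥(integralClosure R₀ K)) := by
  obtain ⟨hnoe, -⟩ := hexc
  haveI := hnoe
  let A := ↥(integralClosure R₀ K)
  haveI : CharZero R₀ := charZero_of_injective_algebraMap (algebraMap k R₀).injective
  haveI : CharZero (FractionRing R₀) := charZero_of_injective_algebraMap (IsFractionRing.injective R₀ (FractionRing R₀))
  haveI : Module.Finite R₀ A := IsIntegralClosure.finite R₀ (FractionRing R₀) K A
  refine ⟨IsNoetherianRing.of_finite R₀ A, integralClosure.isIntegrallyClosedOfFiniteExtension (FractionRing R₀),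
    integralClosure.isFractionRing_of_finite_extension (FractionRing R₀) K, hdim ▸
    Order.krullDim_le_of_strictMono (fun p : PrimeSpectrum A => PrimeSpectrum.comap (algebraMap R₀ A) p) fun p p' h => ?_,
    fun p hp => ?_⟩
  · obtain ⟨x, hx, hxn⟩ := SetLike.exists_of_lt (show p.asIdeal < p'.asIdeal from h)
    exact Ideal.comap_lt_comap_of_integral_mem_sdiff h.le ⟨hx, hxn⟩ (Algebra.IsIntegral.isIntegral x)
  · have := ((IsUnit.mk0 (p : k) (Nat.cast_ne_zero.2 hp.ne_zero)).map (algebraMap k R₀)).map (algebraMap R₀ A)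
    rwa [map_natCast, map_natCast] at this

variable {A : Type u} [CommRing A] (U : (Spec (CommRingCat.of A)).Opens)

/-- residue characteristics on the open are zero -/
theorem isUnit_natCast_stalk (hQ : ∀ p : ℕ, p.Prime → IsUnit (p : A)) (x : U) (p : ℕ) (hp : p.Prime) :
    IsUnit (p : (U : Scheme.{u}).presheaf.stalk x) := by
  have := ((hQ p hp).map (algebraMap A (Localization.AtPrime x.1.asIdeal))).map (stalkIso U x).inv.hom
  rwa [map_natCast, map_natCast] at this

variable [IsDomain A] [IsNoetherianRing A]

/-- **torsion sheaves on the open** -/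
theorem subsingleton_H_torsion_open (hdimA : ringKrullDim A ≤ 2)
    (hU : ∀ x ∈ U, ¬ IsClosed ({x} : Set ↥(Spec (CommRingCat.of A)))) (hQ : ∀ p : ℕ, p.Prime → IsUnit (p : A))
    (K : Type u) [Field K] [Algebra A K] [IsFractionRing A K] (hK : EtCoh.CohDimLE (Spec (CommRingCat.of K)) 2)
    (hcdv : ∀ x : ↥(U : Scheme.{u}), IsClosed ({x} : Set ↥(U : Scheme.{u})) →
      EtCoh.CohDimLE (Spec ((U : Scheme.{u}).residueField x)) 1)
    (F : EtCoh.Ab (U : Scheme.{u})) (hF : EtCoh.IsTorsion F) (r : ℕ) (hr : 4 ≤ r) :
    Subsingleton (EtCoh.H (U : Scheme.{u}) F r) := by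
  haveI : IsNoetherian (Spec (CommRingCat.of A)) := inferInstance
  haveI : IsNoetherian (U : Scheme.{u}) := EtDivSeq.isNoetherian_open U
  exact subsingleton_H_torsion (X := (U : Scheme.{u})) (ringKrullDim_stalk_le U hdimA hU)
    (isUnit_natCast_stalk U hQ)
    (fun x hx => kVanOn_generic U hdimA hU K hK x (eq_bot_of_not_isClosed U hdimA hU x hx)) hcdv F hF r hr

end Groth.Agent.HLocTwo
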