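import Groth.Agent.HLocTwo.ExtDiv
import Groth.Agent.EtMV.ConstOpen
import Groth.Agent.EtaleLocalProps.Basic
import Groth.Agent.EtCons.NoethCons
import Mathlib

/-!
# Embedding constructible sheaves on a scheme of dimension one
-/

set_option autoImplicit false
set_option backward.isDefEq.respectTransparency false
set_option backward.isDefEq.respectTransparency.types false
set_option linter.auxLemma false
set_option linter.style.haveILetI false

universe u

open CategoryTheory CategoryTheory.Limits CategoryTheory.Abelian AlgebraicGeometry Opposite IsLocalRing TopologicalSpace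
open Groth.Agent.EtPBC Groth.Agent.EtDivSeq

noncomputable section

namespace Groth.Agent.HLocTwo

variable {X : Scheme.{u}}

/-- a finite biproduct of sheaves vanishing at a point vanishes there -/
theorem zeroAt_biproduct {ι : Type u} [Finite ι] (G : ι → EtCoh.Ab X) {x : X} (h : ∀ i, ZeroAt (G i) x) :
    ZeroAt (⨁ G) x := by
  classical
  haveI := Fintype.ofFinite ι
  obtain ⟨Ω, _, _, ξ, hξ⟩ := exists_geomPt x
  rw [← isZero_stalk_iff_zeroAt hξ, IsZero.iff_id_eq_zero, ← CategoryTheory.Functor.map_id]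
  rw [show 𝟙 (⨁ G) = ∑ i, biproduct.π G i ≫ biproduct.ι G i from biproduct.hom_ext _ _ fun k => by
    rw [Category.id_comp, Preadditive.sum_comp, Finset.sum_eq_single k, Category.assoc, biproduct.ι_π_self,
      Category.comp_id]
    · intro b _ hb
      rw [Category.assoc, biproduct.ι_π_ne _ hb, comp_zero]
    · exact fun h => absurd (Finset.mem_univ k) h]
  haveI : (EtCoh.stalk ξ).Additive := Functor.additive_of_preserves_binary_products _
  rw [Functor.map_sum]
  refine Finset.sum_eq_zero fun i _ => ?_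
  rw [Functor.map_comp]
  rw [((isZero_stalk_iff_zeroAt hξ _).2 (h i)).eq_of_tgt ((EtCoh.stalk ξ).map (biproduct.π G i)) 0, zero_comp]

/-- constant sheaves remember the exponent -/
theorem nsmul_eq_zero_of_killed {W : Scheme.{u}} {M : Type} [AddCommGroup M] {m : ℕ}
    (h : EtCoh.KilledBy m (EtCoh.const W M)) (w : W) (x : M) : m • x = 0 := by
  have e : EtMV.cst (EtCoh.top W) (m • x) = m • EtMV.cst (EtCoh.top W) x :=
    map_nsmul ((toSheafify W.smallEtaleTopology (EtMV.cPre0 W M)).app (op (EtCoh.top W))).hom m ⟨x⟩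
  have e0 : EtMV.cst (EtCoh.top W) (0 : M) = 0 :=
    map_zero ((toSheafify W.smallEtaleTopology (EtMV.cPre0 W M)).app (op (EtCoh.top W))).hom
  exact EtMV.cst_inj (W := EtCoh.top W) w (e.trans ((h _ _).trans e0.symm))

variable [AlgebraicGeometry.IsNoetherian X] [IsIntegral X] (hdim : ∀ x : X, ringKrullDim (X.presheaf.stalk x) ≤ 1)
include hdim

/-- **constructible sheaves embed into a direct image of a constant sheaf plus a finitely supported one** -/
theorem exists_mono_push_const (F : EtCoh.Ab X) (hF : EtPBC.IsConstructible F) (m : ℕ) (hmF : EtCoh.KilledBy m F)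
    (V : X.Opens) (hV : Nonempty ↥(V : Scheme.{u})) {Un : Scheme.{u}} [IsIntegral Un]
    (hnorm : ∀ y : ↥Un, IsIntegrallyClosed ↑(Un.presheaf.stalk y)) (π : Un ⟶ X) [IsFinite π] [Surjective π]
    (M₀ : Type) [AddCommGroup M₀]
    (hconst : Nonempty ((EtCoh.pull (π ⁻¹ᵁ V).ι).obj ((EtCoh.pull π).obj F) ≅ EtCoh.const ↑(π ⁻¹ᵁ V) M₀)) :
    (∀ x : M₀, m • x = 0) ∧ ∃ (Ff : EtCoh.Ab X), EtPBC.IsConstructible Ff ∧ (EtPBC.supp Ff).Finite ∧
      ∃ ι : F ⟶ (EtCoh.push π).obj (EtCoh.const Un M₀) ⊞ Ff, Mono ι := by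
  classical
  obtain ⟨e⟩ := hconst
  obtain ⟨x₀⟩ := hV
  obtain ⟨y₀, hy₀⟩ := π.surjective x₀.1
  let j := (π ⁻¹ᵁ V).ι
  have hy₀' : y₀ ∈ π ⁻¹ᵁ V := show π y₀ ∈ V from hy₀ ▸ x₀.2
  refine ⟨nsmul_eq_zero_of_killed (W := ↑(π ⁻¹ᵁ V)) ((killed_iff _ _).2 ?_) ⟨y₀, hy₀'⟩, ?_⟩
  · have h1 := (killed_iff m _).1 (killed_pull j (killed_pull π (show Killed m F from hmF)))
    calc m • 𝟙 (EtCoh.const ↑(π ⁻¹ᵁ V) M₀) = m • (e.inv ≫ 𝟙 _ ≫ e.hom) := by rw [Category.id_comp, e.inv_hom_id]
      _ = e.inv ≫ (m • 𝟙 _) ≫ e.hom := by rw [Preadditive.nsmul_comp, Preadditive.comp_nsmul]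
      _ = 0 := by rw [h1, zero_comp, comp_zero]
  haveI : IsLocallyNoetherian Un := LocallyOfFiniteType.isLocallyNoetherian π
  haveI : CompactSpace Un := QuasiCompact.compactSpace_of_compactSpace π
  haveI : AlgebraicGeometry.IsNoetherian Un := { }
  have hdense : Dense (Set.range j) := by
    rw [Scheme.Opens.range_ι]
    exact (π ⁻¹ᵁ V).2.dense ⟨y₀, hy₀'⟩
  have hdom : ∀ (W : Un.Etale) (w : W.left), IsDomain (W.left.presheaf.stalk w) := fun W w => by
    let g : W.left ⟶ Un := W.hom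
    haveI := hnorm (g w)
    haveI : Etale g := W.prop
    exact ((EtaleLocalProps.isNormal_stalk_iff g w).2 ⟨inferInstance, inferInstance⟩).1
  haveI := EtMV.isIso_unit_const_open (M := M₀) j hdense hdom
  let u₁ := (EtCoh.pullPushAdj j).unit.app ((EtCoh.pull π).obj F)
  let θ : (EtCoh.push j).obj ((EtCoh.pull j).obj ((EtCoh.pull π).obj F)) ⟶ EtCoh.const Un M₀ :=
    (EtCoh.push j).map (e.hom ≫ (EtCore.pullConst j M₀).inv) ≫ inv ((EtCoh.pullPushAdj j).unit.app (EtCoh.const Un M₀))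
  let φ : (EtCoh.pull π).obj F ⟶ EtCoh.const Un M₀ := u₁ ≫ θ
  haveI : IsIso (e.hom ≫ (EtCore.pullConst j M₀).inv) := inferInstance
  haveI : IsIso θ := inferInstance
  have hφ : ∀ y : Un, π y ∈ V → ZeroAt (kernel φ) y := fun y hy => by
    obtain ⟨Ω, _, _, ξ, hξ, h⟩ :=
      bijective_stalk_unit_at j (EtPushStalk.liftProp_of_openImmersion j) ((EtCoh.pull π).obj F) ⟨y, hy⟩ rfl
    exact zeroAt_of_iso (kernelCompMono u₁ θ).symm (zeroAt_kernel hξ u₁ h.1)
  let ρ : F ⟶ (EtCoh.push π).obj (EtCoh.const Un M₀) :=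
    (EtCoh.pullPushAdj π).unit.app F ≫ (EtCoh.push π).map φ
  let Z : Set X := (V : Set X)ᶜ
  have hZ : IsClosed Z := V.2.isClosed_compl
  have hZU : Z ≠ Set.univ := fun h => (h.ge (Set.mem_univ x₀.1) : x₀.1 ∈ Z) x₀.2
  haveI : Finite ↥Z := (finite_Z hdim hZ hZU).to_subtype
  let Gv : ↥Z → EtCoh.Ab X := fun v =>
    (EtCoh.push (X.fromSpecResidueField v.1)).obj ((EtCoh.pull (X.fromSpecResidueField v.1)).obj F)
  let us : F ⟶ ⨁ Gv := biproduct.lift fun v => (EtCoh.pullPushAdj (X.fromSpecResidueField v.1)).unit.app F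
  refine ⟨Limits.image us, EtCons.isConstructible_quotient (factorThruImage us) hF, ?_,
    biprod.lift ρ (factorThruImage us), ?_⟩
  · refine (finite_Z hdim hZ hZU).subset ?_
    rintro x ⟨Ω, _, _, ξ, hr, hne⟩
    by_contra hx
    have hξ : ξ default = x := (hr.le ⟨default, rfl⟩ :)
    exact hne ((isZero_stalk_iff_zeroAt hξ _).2 (zeroAt_of_mono (Limits.image.ι us) (zeroAt_biproduct Gv fun v =>
      zeroAt_skyPush (isClosed_of_mem hdim hZ hZU v.2) _ fun (h : x = v.1) => hx (h ▸ v.2))))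
  refine Preadditive.mono_of_isZero_kernel _ (isZero_of_zeroAt _ fun x => ?_)
  let K := kernel (biprod.lift ρ (factorThruImage us))
  let k : K ⟶ F := kernel.ι _
  have hk : k ≫ biprod.lift ρ (factorThruImage us) = 0 := kernel.condition _
  by_cases hx : x ∈ V
  · obtain ⟨y, rfl⟩ := π.surjective x
    haveI := Groth.Agent.EtPullExact.pull_preservesFiniteLimits π
    have h1 : (EtCoh.pull π).map k ≫ φ = 0 := by
      have h2 : k ≫ ρ = 0 := by simpa using congrArg (· ≫ biprod.fst) hk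
      apply ((EtCoh.pullPushAdj π).homEquiv _ _).injective
      rw [Adjunction.homEquiv_unit, Adjunction.homEquiv_unit, Functor.map_comp, Functor.map_zero, comp_zero,
        ← Category.assoc, show (EtCoh.pullPushAdj π).unit.app K ≫ (EtCoh.push π).map ((EtCoh.pull π).map k) =
          k ≫ (EtCoh.pullPushAdj π).unit.app F from ((EtCoh.pullPushAdj π).unit.naturality k).symm, Category.assoc]
      exact h2
    haveI : Mono (kernel.lift φ ((EtCoh.pull π).map k) h1) := inferInstance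
    have h3 := zeroAt_of_mono (kernel.lift φ ((EtCoh.pull π).map k) h1) (hφ y hx)
    obtain ⟨Ω, _, _, ζ, hζ⟩ := exists_geomPt y
    rw [← isZero_stalk_iff_zeroAt hζ] at h3
    refine (isZero_stalk_iff_zeroAt (ξ := ζ ≫ π) ?_ K).1 (IsZero.of_iso h3 ((EtStalk.stalkPullIso π ζ).app K))
    subst hζ
    rfl
  · let v : ↥Z := ⟨x, hx⟩
    let i := X.fromSpecResidueField v.1
    haveI : IsClosedImmersion i := isClosed_singleton_iff_isClosedImmersion.1 (isClosed_of_mem hdim hZ hZU hx)
    obtain ⟨Ω, _, _, ξ, hξ, hb⟩ := bijective_stalk_unit_at i (EtPushStalk.liftProp_of_closedImmersion i) F default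
      (Scheme.fromSpecResidueField_apply x _)
    have h2 : k ≫ (EtCoh.pullPushAdj i).unit.app F = 0 := by
      have h4 : k ≫ factorThruImage us = 0 := by simpa using congrArg (· ≫ biprod.snd) hk
      have h5 : k ≫ us = 0 := by rw [← Limits.image.fac us, reassoc_of% h4, zero_comp]
      simpa [us] using congrArg (· ≫ biproduct.π Gv v) h5
    haveI : Mono (kernel.lift ((EtCoh.pullPushAdj i).unit.app F) k h2) := inferInstance
    exact zeroAt_of_mono (kernel.lift _ k h2) (zeroAt_kernel hξ _ hb.1)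

end Groth.Agent.HLocTwo
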