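import Groth.Agent.HLocTwo.DimOne
import Groth.Agent.EtDivSeq.Regular
import Groth.Prelude.Def_EGA4b
import Mathlib

/-!
# The punctured spectrum of a two dimensional henselian normal local ring
-/

set_option autoImplicit false
set_option backward.isDefEq.respectTransparency false
set_option backward.isDefEq.respectTransparency.types false
set_option linter.auxLemma false
set_option linter.style.haveILetI false

universe u

open CategoryTheory CategoryTheory.Limits AlgebraicGeometry IsLocalRing
open Groth.Agent.EtPBC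

noncomputable section

namespace Groth.Agent.HLocTwo

/-- normal domains of dimension at most one localise to regular rings -/
theorem isRegularLocalRing_atPrime (A : Type u) [CommRing A] [IsDomain A] [IsNoetherianRing A] [IsIntegrallyClosed A]
    (p : Ideal A) [p.IsPrime] (hh : p.height ≤ 1) : IsRegularLocalRing (Localization.AtPrime p) := by
  let B := Localization.AtPrime p
  haveI : IsIntegrallyClosed B := isIntegrallyClosed_of_isLocalization B p.primeCompl p.primeCompl_le_nonZeroDivisors
  haveI : Ring.KrullDimLE 1 B := (Ring.krullDimLE_iff).2 (by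
    rw [IsLocalization.AtPrime.ringKrullDim_eq_height p B]
    exact_mod_cast hh)
  haveI : Ring.DimensionLEOne B := ⟨fun {P} hne hP => by
    rcases (Ring.krullDimLE_one_iff (R := B)).1 inferInstance P hP with h | h
    · rw [IsDomain.minimalPrimes_eq_singleton_bot] at h
      exact absurd h hne
    · exact h⟩
  haveI : IsDedekindRing B := { }
  haveI : IsDedekindDomain B := { }
  haveI : IsPrincipalIdealRing B := by
    by_cases hf : IsField B
    · letI := hf.toField
      infer_instance
    · haveI : IsDiscreteValuationRing B :=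
        ((IsDiscreteValuationRing.TFAE B hf).out 0 2 : IsDiscreteValuationRing B ↔ IsDedekindDomain B).2 inferInstance
      infer_instance
  infer_instance

variable {A : Type u} [CommRing A] (U : (Spec (CommRingCat.of A)).Opens)

/-- stalks on an open of an affine scheme -/
def stalkIso (x : U) : (U : Scheme.{u}).presheaf.stalk x ≅ CommRingCat.of (Localization.AtPrime x.1.asIdeal) :=
  U.stalkIso x ≪≫ Spec.stalkIso (CommRingCat.of A) x.1

/-- non-maximal primes in dimension two have height at most one -/
theorem height_le_one (hdimA : ringKrullDim A ≤ 2) (p : PrimeSpectrum A) (hp : ¬ IsClosed ({p} : Set (PrimeSpectrum A))) :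
    p.asIdeal.height ≤ 1 := by
  rw [PrimeSpectrum.isClosed_singleton_iff_isMaximal] at hp
  obtain ⟨m, hm, hpm⟩ := p.asIdeal.exists_le_maximal p.isPrime.ne_top
  have hlt : p.asIdeal < m := lt_of_le_of_ne hpm fun h => hp (h ▸ hm)
  haveI := hm.isPrime
  have h2 : m.height ≤ 2 :=
    WithBot.coe_le_coe.1 ((Ideal.height_le_ringKrullDim_of_ne_top hm.ne_top).trans hdimA)
  have hfin : m.height ≠ ⊤ := ne_top_of_le_ne_top (by simp) h2
  haveI : m.FiniteHeight := ⟨Or.inr hfin⟩
  have h3 := Ideal.height_strict_mono_of_isPrime_of_isPrime hlt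
  have h4 : p.asIdeal.height < 2 := h3.trans_le h2
  exact ENat.lt_two_iff.1 h4

variable [IsDomain A] [IsNoetherianRing A] (hdimA : ringKrullDim A ≤ 2)
  (hU : ∀ x ∈ U, ¬ IsClosed ({x} : Set ↥(Spec (CommRingCat.of A))))
include hdimA hU

theorem ringKrullDim_stalk_le (x : U) : ringKrullDim ((U : Scheme.{u}).presheaf.stalk x) ≤ 1 := by
  rw [ringKrullDim_eq_of_ringEquiv (stalkIso U x).commRingCatIsoToRingEquiv,
    IsLocalization.AtPrime.ringKrullDim_eq_height x.1.asIdeal (Localization.AtPrime x.1.asIdeal)]
  exact_mod_cast height_le_one hdimA x.1 (hU _ x.2)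

theorem etFact [IsIntegrallyClosed A] : EtDivSeq.EtFact (U : Scheme.{u}) :=
  haveI : IsNoetherian (Spec (CommRingCat.of A)) := inferInstance
  haveI := EtDivSeq.isNoetherian_open U
  EtDivSeq.etFact_of_regular fun x => by
    haveI := isRegularLocalRing_atPrime A x.1.asIdeal (height_le_one hdimA x.1 (hU _ x.2))
    exact IsRegularLocalRing.of_ringEquiv (stalkIso U x).commRingCatIsoToRingEquiv.symm

/-- a point of the open that is not closed there is the generic point -/
theorem eq_bot_of_not_isClosed (x : U) (hx : ¬ IsClosed ({x} : Set ↥(U : Scheme.{u}))) : x.1.asIdeal = ⊥ := by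
  by_contra h0
  refine hx (isClosed_of_closure_subset fun z hz => ?_)
  by_contra hne
  have hxz : x ⤳ z := specializes_iff_mem_closure.2 hz
  have hle : x.1.asIdeal ≤ z.1.asIdeal := (PrimeSpectrum.le_iff_specializes _ _).2 (hxz.map continuous_subtype_val)
  have hlt : x.1.asIdeal < z.1.asIdeal := lt_of_le_of_ne hle fun e => hne (Subtype.ext (PrimeSpectrum.ext e.symm))
  have h1 : x.1.asIdeal.height < 1 := by
    refine lt_of_lt_of_le ?_ (height_le_one hdimA z.1 (hU _ z.2))
    haveI : z.1.asIdeal.FiniteHeight := ⟨Or.inr (ne_top_of_le_ne_top (by simp) (height_le_one hdimA z.1 (hU _ z.2)))⟩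
    exact Ideal.height_strict_mono_of_isPrime_of_isPrime hlt
  rw [Order.lt_one_iff, Ideal.height_eq_zero_iff_eq_bot] at h1
  exact h0 h1

omit [IsNoetherianRing A] in
theorem kVanOn_generic (K : Type u) [Field K] [Algebra A K] [IsFractionRing A K] (hK : EtCoh.CohDimLE (Spec (CommRingCat.of K)) 2)
    (x : U) (hx : x.1.asIdeal = ⊥) : EtCoh.CohDimLE (Spec ((U : Scheme.{u}).residueField x)) 2 := by
  let κ := (U : Scheme.{u}).residueField x
  let g : CommRingCat.of A ⟶ κ :=
    CommRingCat.ofHom (algebraMap A (Localization.AtPrime x.1.asIdeal)) ≫ (stalkIso U x).inv ≫ (U : Scheme.{u}).residue x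
  have hg : ∀ z : κ, ∃ (a : A) (s : A), g s ≠ 0 ∧ z * g s = g a := fun z => by
    obtain ⟨y, rfl⟩ := (U : Scheme.{u}).residue_surjective x z
    obtain ⟨w, rfl⟩ : ∃ w, (stalkIso U x).inv w = y :=
      ((ConcreteCategory.isIso_iff_bijective (stalkIso U x).inv).1 inferInstance).2 y
    obtain ⟨⟨a, s⟩, rfl⟩ := IsLocalization.mk'_surjective x.1.asIdeal.primeCompl w
    have hs : IsUnit (g s.1) :=
      ((IsLocalization.map_units (Localization.AtPrime x.1.asIdeal) s).map (stalkIso U x).inv.hom).map
        ((U : Scheme.{u}).residue x).hom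
    refine ⟨a, s.1, hs.ne_zero, ?_⟩
    show (U : Scheme.{u}).residue x ((stalkIso U x).inv _) * (U : Scheme.{u}).residue x ((stalkIso U x).inv _) =
      (U : Scheme.{u}).residue x ((stalkIso U x).inv _)
    rw [← map_mul, ← map_mul]
    exact congrArg (fun v => (U : Scheme.{u}).residue x ((stalkIso U x).inv v)) (IsLocalization.mk'_spec _ a s)
  have hinj : Function.Injective g.hom := by
    rw [injective_iff_map_eq_zero]
    intro a ha
    by_contra ha0
    have hmem : a ∈ x.1.asIdeal.primeCompl := fun h => ha0 (by rwa [hx] at h)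
    exact (((IsLocalization.map_units (Localization.AtPrime x.1.asIdeal) ⟨a, hmem⟩).map (stalkIso U x).inv.hom).map
        ((U : Scheme.{u}).residue x).hom).ne_zero ha
  let ψ : K →+* κ := IsFractionRing.lift hinj
  have hψ : Function.Surjective ψ := fun z => by
    obtain ⟨a, s, hs, hz⟩ := hg z
    refine ⟨algebraMap A K a / algebraMap A K s, ?_⟩
    rw [map_div₀, IsFractionRing.lift_algebraMap, IsFractionRing.lift_algebraMap, div_eq_iff hs]
    exact hz.symm
  haveI : IsIntegralHom (Spec.map (CommRingCat.ofHom ψ)) := by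
    rw [IsIntegralHom.SpecMap_iff]
    exact RingHom.isIntegral_of_surjective _ hψ
  exact cohDimLE_of_kVanOn ((kVanOn_of_cohDimLE hK).of_isIntegralHom (Spec.map (CommRingCat.ofHom ψ)))

/-- **no cohomology of the units above degree three** -/
theorem subsingleton_H_Gm_open [IsIntegrallyClosed A] (hQ : ∀ p : ℕ, p.Prime → IsUnit (p : A))
    (K : Type u) [Field K] [Algebra A K] [IsFractionRing A K] (hK : EtCoh.CohDimLE (Spec (CommRingCat.of K)) 2)
    (hcdv : ∀ x : ↥(U : Scheme.{u}), IsClosed ({x} : Set ↥(U : Scheme.{u})) →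
      EtCoh.CohDimLE (Spec ((U : Scheme.{u}).residueField x)) 1)
    (r : ℕ) (hr : 4 ≤ r) : Subsingleton (EtCoh.H (U : Scheme.{u}) (EtCoh.Gm (U : Scheme.{u})) r) := by
  haveI : IsNoetherian (Spec (CommRingCat.of A)) := inferInstance
  haveI : IsNoetherian (U : Scheme.{u}) := EtDivSeq.isNoetherian_open U
  refine subsingleton_H_Gm (X := (U : Scheme.{u})) (ringKrullDim_stalk_le U hdimA hU) (fun x p hp => ?_)
    (fun x hx => kVanOn_generic U hdimA hU K hK x (eq_bot_of_not_isClosed U hdimA hU x hx)) hcdv (etFact U hdimA hU) r hr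
  have := ((hQ p hp).map (algebraMap A (Localization.AtPrime x.1.asIdeal))).map (stalkIso U x).inv.hom
  rwa [map_natCast, map_natCast] at this

end Groth.Agent.HLocTwo
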